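import Cfsg.Agent.H525.NB.ThSeven
import Cfsg.Agent.H94.NBTh
import Cfsg.Agent.H227.IMTh
import Cfsg.Agent.H536.NB.Tools
import Cfsg.Agent.H852.IMSuz

/-!
# `Th` has more than one `p`-block, `p` odd (helper525, for the hub S5003)

`p = 3`: helper94. `p = 7`: `ThSeven`. `p = 13, 19, 31`: Itô-Michler. `p = 5`: a character of degree
`4096000 = 2¹⁵ 5³`.
-/

set_option autoImplicit false

namespace Cfsg.Agent.H525.NB

open Cfsg Subgroup
open Cfsg.Agent Cfsg.Agent.H33 Cfsg.Agent.H7.NBp Cfsg.Agent.H718.NBIH Cfsg.Agent.H536.NB.Tools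

theorem nb_th_of (h5 : [Fact (Nat.Prime 5)] → NB 5 Spor.Th) {p : ℕ} [hp : Fact p.Prime] (h2 : p ≠ 2) (S : Type)
    [Group S] [Finite S] [IsSimpleGroup S] (h : Cfsg.Spor.IsoTh S) (ih : IH p (Nat.card S)) : NB p S := by
  have hh := h
  obtain ⟨e⟩ := h
  have hcard : Nat.card Spor.Th = 90745943887872000 := Cfsg.Agent.S1700.result.2
  have hcS : Nat.card S = 90745943887872000 := by rw [Nat.card_congr e.toEquiv, hcard]
  by_cases hd : p ∣ Nat.card S
  swap
  · exact NB.of_not_dvd hd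
  have him : IM p S := H227.IMTh.im_th hh hd
  have hm := H852.IMSuz.prime_cases' hp.out [2, 3, 5, 7, 13, 19, 31] (by decide) 31 hd (by rw [hcS]; norm_num)
  have ih' : IH p (Nat.card Spor.Th) := by rwa [hcard, ← hcS]
  simp only [List.mem_cons, List.not_mem_nil, or_false] at hm
  rcases hm with rfl | rfl | rfl | rfl | rfl | rfl | rfl
  · exact absurd rfl h2
  · exact H94.NBC.nb_th_three S hh ih
  · exact NB.iso e.symm h5
  · exact NB.iso e.symm (nb_th_seven ih')
  · exact NB_of_IM him (by rw [hcS]; norm_num)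
  · exact NB_of_IM him (by rw [hcS]; norm_num)
  · exact NB_of_IM him (by rw [hcS]; norm_num)

end Cfsg.Agent.H525.NB
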