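import Cfsg.Agent.H978.NB.Char
import Cfsg.Agent.CpAutTh.Final
import Cfsg.Agent.S1700

/-!
# `Th` has more than one 7-block (helper525, for the hub S5003)

`|Th| = 7² m`. `y` of order 7 commutes with an element `w` of order 4 (in `C_Q(y) = D₈`, `Q = 2^{1+8}`). If there is
only one 7-block, `P = O_7(C(y))` contains its centralizer, so `|P| = 49`, `|C_P(w²)| = 7`; `⟨w⟩` permutes the 42
elements of `P` outside `C_P(w²)` freely.
-/

set_option autoImplicit false

namespace Cfsg.Agent.H525.NB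

open Cfsg Subgroup
open Cfsg.Agent Cfsg.Agent.H7.NBp Cfsg.Agent.H718.NBIH Cfsg.Agent.H978.NB

/-- an element of order 4 acts freely outside the centralizer of its square -/
theorem four_dvd {S : Type*} [Group S] [Finite S] {P : Subgroup S} {w : S} (hw : orderOf w = 4)
    (hn : ∀ x ∈ P, w * x * w⁻¹ ∈ P) :
    4 ∣ Nat.card P - Nat.card (P ⊓ centralizer ({w ^ 2} : Set S) : Subgroup S) := by
  classical
  have hwn : zpowers w ≤ normalizer (P : Set S) := by
    rw [zpowers_le]
    exact mem_normalizer_fintype hn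
  let act : MulAction (zpowers w) P := MulAction.compHom P (Subgroup.inclusion hwn)
  have hact : ∀ (g : zpowers w) (x : P), ((g • x : P) : S) = (g : S) * x * (g : S)⁻¹ := fun g x => rfl
  have hcw : ∀ g : zpowers w, (g : S) * w ^ 2 = w ^ 2 * g := by
    intro g
    obtain ⟨i, hi⟩ := mem_zpowers_iff.1 g.2
    rw [← hi]
    exact (((Commute.refl w).zpow_left i).pow_right 2).eq
  let Y : SubMulAction (zpowers w) P :=
    { carrier := {x | w ^ 2 * (x : S) ≠ x * w ^ 2}
      smul_mem' := by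
        intro g x hx h
        apply hx
        rw [hact] at h
        have h1 := hcw g
        have h2 : w ^ 2 * ((g : S) * x * (g : S)⁻¹) = g * (w ^ 2 * x) * (g : S)⁻¹ := by
          rw [← mul_assoc, ← mul_assoc, ← h1, mul_assoc (g : S) (w ^ 2)]
        have h3 : (g : S) * x * (g : S)⁻¹ * w ^ 2 = g * (x * w ^ 2) * (g : S)⁻¹ := by
          have h4 : (g : S)⁻¹ * w ^ 2 = w ^ 2 * (g : S)⁻¹ := by
            rw [inv_mul_eq_iff_eq_mul, ← mul_assoc, h1, mul_inv_cancel_right]
          rw [mul_assoc, h4]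
          group
        rw [h2, h3] at h
        exact mul_left_cancel (mul_right_cancel h) }
  have hstab : ∀ y : Y, MulAction.stabilizer (zpowers w) y = ⊥ := by
    rintro ⟨y, hy⟩
    rw [eq_bot_iff]
    intro g hg
    rw [mem_bot]
    have h1 : g • y = y := congrArg Subtype.val (MulAction.mem_stabilizer_iff.1 hg)
    have h2 : (g : S) * y * (g : S)⁻¹ = y := by rw [← hact, h1]
    have h3 : Commute (g : S) y := mul_inv_eq_iff_eq_mul.1 h2
    obtain ⟨i, hi⟩ := mem_zpowers_iff.1 g.2
    have hw4 : w ^ (4 : ℤ) = 1 := by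
      have := pow_orderOf_eq_one w
      rw [hw] at this
      exact_mod_cast this
    have h4 : i % 4 = 0 ∨ i % 4 = 1 ∨ i % 4 = 2 ∨ i % 4 = 3 := by omega
    have h5 : w ^ i = w ^ (i % 4) := by
      conv_lhs => rw [← Int.emod_add_mul_ediv i 4, zpow_add, zpow_mul, hw4, one_zpow, mul_one]
    have hy' : ¬ Commute (w ^ 2) (y : S) := hy
    rw [← hi, h5] at h3
    rcases h4 with h | h | h | h
    · apply Subtype.ext
      rw [← hi, h5, h, zpow_zero]
      rfl
    · rw [h, zpow_one] at h3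
      exact absurd (h3.pow_left 2) hy'
    · rw [h] at h3
      exact absurd (by exact_mod_cast h3) hy'
    · rw [h] at h3
      refine absurd ?_ hy'
      have h6 := h3.pow_left 2
      have h7 : (w ^ (3 : ℤ)) ^ 2 = w ^ 2 := by
        calc (w ^ (3 : ℤ)) ^ 2 = w ^ (4 : ℤ) * w ^ 2 := by
              rw [← zpow_natCast, ← zpow_mul, ← zpow_natCast, ← zpow_add]
              norm_num
          _ = w ^ 2 := by rw [hw4, one_mul]
      rwa [h7] at h6
  have h1 : Nat.card Y = Nat.card (Quotient (MulAction.orbitRel (zpowers w) Y)) * 4 := by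
    rw [Nat.card_congr (MulAction.selfEquivOrbitsQuotientProd hstab), Nat.card_prod, Nat.card_zpowers, hw]
  have h2 : Nat.card P = Nat.card (P ⊓ centralizer ({w ^ 2} : Set S) : Subgroup S) + Nat.card Y := by
    have e : P ≃ (P ⊓ centralizer ({w ^ 2} : Set S) : Subgroup S) ⊕ Y := by
      refine ((Equiv.sumCompl (fun x : P => w ^ 2 * (x : S) = x * w ^ 2)).symm).trans (Equiv.sumCongr ?_ ?_)
      · exact
          { toFun := fun x => ⟨(x.1 : S), x.1.2, mem_centralizer_singleton_iff.2 x.2.symm⟩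
            invFun := fun x => ⟨⟨x.1, x.2.1⟩, (mem_centralizer_singleton_iff.1 x.2.2).symm⟩
            left_inv := fun _ => rfl
            right_inv := fun _ => rfl }
      · exact Equiv.refl _
    rw [Nat.card_congr e, Nat.card_sum]
  rw [h2, Nat.add_sub_cancel_left, h1]
  exact Dvd.intro_left _ rfl

/-- commuting elements of order 7 and 4, `7³ ∤ |S|` -/
theorem nb_seven_of {S : Type*} [Group S] [Finite S] [IsSimpleGroup S] [Fact (Nat.Prime 7)]
    (hna : ¬ IsMulCommutative S) (ih : IH 7 (Nat.card S)) {y w : S} (hy : orderOf y = 7) (hw : orderOf w = 4)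
    (hwy : w * y = y * w) (h7 : ¬ 7 ^ 3 ∣ Nat.card S) : NB 7 S := by
  by_contra hnb
  have hy1 : y ≠ 1 := by
    rintro rfl
    rw [orderOf_one] at hy
    norm_num at hy
  obtain ⟨P, hP⟩ := exists_loc hna ih hnb ⟨1, by rw [pow_one, ← hy, pow_orderOf_eq_one]⟩ hy1
  have hz : orderOf (w ^ 2) = 2 := by
    rw [orderOf_pow_of_dvd (by norm_num) (by rw [hw]; norm_num), hw]
  obtain ⟨m, j, h1, h2, h3, h4, h5⟩ := hP.step hy1 Nat.prime_two (by norm_num) hz
    (((show Commute w y from hwy).pow_left 2).eq)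
  have h6 : m + j < 3 := by
    by_contra hcon
    exact h7 ((pow_dvd_pow 7 (by omega)).trans (h3 ▸ card_subgroup_dvd_card P))
  have h8 := four_dvd hw (P := P) (fun x hx => hP.norm w hwy x hx)
  obtain rfl : m = 1 := by omega
  obtain rfl : j = 1 := by omega
  rw [h3, h4] at h8
  norm_num at h8

section

open Cfsg.Agent.Th Cfsg.Agent.Th.Base Cfsg.Agent.Th.Word Cfsg.Agent.Th.FlagCover Cfsg.Agent.Th.IndexUpper
  Cfsg.Agent.Th.KOracle Cfsg.Agent.Th.CStruct
open Cfsg.Agent.CpAutTh.Local Cfsg.Agent.CpAutTh.Seven Cfsg.Agent.CpAutTh.Data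

theorem nb_th_seven [Fact (Nat.Prime 7)] (ih : IH 7 (Nat.card Spor.Th)) : NB 7 Spor.Th := by
  have hcard : Nat.card Spor.Th = 90745943887872000 := Cfsg.Agent.S1700.result.2
  have hsim : IsSimpleGroup Spor.Th := Cfsg.Agent.S1700.result.1
  have hfin : Finite Spor.Th := Nat.finite_of_card_ne_zero (by rw [hcard]; norm_num)
  obtain ⟨f, F⟩ := Cfsg.Agent.CpAutTh.Local.exists_epi Cfsg.Agent.KFacts.Th.Main.ctx
  refine nb_seven_of Cfsg.Agent.CpAutTh.Main.noncomm ih (y := ev gTh X7) (w := cc gTh 0 * cc gTh 1) ?_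
    (order_w01 Cfsg.Agent.KFacts.Th.Main.ctx) ?_ (by rw [hcard]; norm_num)
  · have := o7 Cfsg.Agent.KFacts.Th.Main.ctx F
    rwa [Subgroup.orderOf_mk] at this
  · have h0 := comm_gen Cfsg.Agent.KFacts.Th.Main.ctx (y := cc gTh 0) (by simp)
    have h1 := comm_gen Cfsg.Agent.KFacts.Th.Main.ctx (y := cc gTh 1) (by simp)
    exact ((show Commute (cc gTh 0) (ev gTh X7) from h0).mul_left h1).eq

end

end Cfsg.Agent.H525.NB
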